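import Groth.Agent.NagataCompleteLib.Tate
import Groth.Agent.WildQuotLib.PSReg
import Groth.Agent.CohenRingLib.Basic
import Groth.Agent.PSStructLib.Basic
import Groth.Agent.ArtFunLib.PS
import Groth.Agent.SopLib.Basic
import Groth.Agent.GrSegreLib.Dim
import Groth.Agent.RegLocal.UFD
import Groth.Agent.RegComplLib.Basic
import Groth.Agent.S5784

/-!
# Complete Noetherian local domains are N-2
-/

set_option autoImplicit false
set_option backward.isDefEq.respectTransparency false
set_option maxHeartbeats 1000000
universe u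

open IsLocalRing

noncomputable section

namespace Groth.Agent.NagataCompleteLib

local instance {σ k : Type*} [CommRing k] [IsDomain k] : IsDomain (MvPowerSeries σ k) :=
  NoZeroDivisors.to_isDomain _

local instance {σ : Type*} [Finite σ] {k : Type*} [CommRing k] [IsDomain k] : Nontrivial (MvPowerSeries σ k) :=
  inferInstance

theorem isN2_mvPowerSeries (k : Type u) [Field k] :
    ∀ n : ℕ, CAlg.IsN2 (MvPowerSeries (Fin n) k) := by
  intro n
  induction n with
  | zero =>
    refine isN2_of_ringEquiv (R := k) (RingEquiv.ofBijective (MvPowerSeries.C (σ := Fin 0) (R := k))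
      ⟨fun a b h => by simpa using congrArg MvPowerSeries.constantCoeff h, fun f =>
        ⟨MvPowerSeries.constantCoeff f, ?_⟩⟩) (isN2_of_isField k)
    ext m
    rw [Subsingleton.elim m 0]
    simp
  | succ n ih =>
    let R := MvPowerSeries (Fin (n + 1)) k
    haveI := WildQuotLib.isRegularLocalRing k (n + 1)
    haveI := RegLocal.ufd R
    haveI : IsIntegrallyClosed R := UniqueFactorizationMonoid.instIsIntegrallyClosed
    let x : R := MvPowerSeries.X 0
    let ρ : R →+* MvPowerSeries (Fin n) k :=
      PowerSeries.constantCoeff.comp (MvPowerSeries.finSuccEquiv k n).toRingEquiv.toRingHom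
    have hρ : Function.Surjective ρ := fun z =>
      ⟨(MvPowerSeries.finSuccEquiv k n).symm (PowerSeries.C z), by
        show PowerSeries.constantCoeff (MvPowerSeries.finSuccEquiv k n _) = z
        rw [AlgEquiv.apply_symm_apply, PowerSeries.constantCoeff_C]⟩
    have hker : Ideal.span ({x} : Set R) = RingHom.ker ρ := by
      refine le_antisymm ((Ideal.span_singleton_le_iff_mem _).2 ?_) fun f hf => ?_
      · show PowerSeries.constantCoeff (MvPowerSeries.finSuccEquiv k n x) = 0
        rw [MvPowerSeries.finSuccEquiv_X_zero, PowerSeries.constantCoeff_X]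
      · obtain ⟨g, hg⟩ := PowerSeries.X_dvd_iff.2
          (show PowerSeries.constantCoeff (MvPowerSeries.finSuccEquiv k n f) = 0 from hf)
        refine Ideal.mem_span_singleton.2 ⟨(MvPowerSeries.finSuccEquiv k n).symm g, ?_⟩
        apply (MvPowerSeries.finSuccEquiv k n).injective
        rw [map_mul, MvPowerSeries.finSuccEquiv_X_zero, AlgEquiv.apply_symm_apply, hg]
    haveI : (Ideal.span ({x} : Set R)).IsPrime := by rw [hker]; exact RingHom.ker_isPrime ρ
    haveI : IsAdicComplete (Ideal.span ({x} : Set R)) R :=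
      AdicLemmas.isAdicComplete_of_le_of_fg (J := maximalIdeal R)
        ((Ideal.span_singleton_le_iff_mem _).2 (by
          rw [WildQuotLib.mem_maximalIdeal_iff_constantCoeff]; exact MvPowerSeries.constantCoeff_X 0))
        (Submodule.fg_span_singleton _) R
    exact tate R x (isN2_of_ringEquiv
      ((RingHom.quotientKerEquivOfSurjective hρ).symm.trans (Ideal.quotEquivOfEq hker.symm)) ih)

theorem isN2_of_finite {R0 R : Type u} [CommRing R0] [IsDomain R0] [IsNoetherianRing R0] [CommRing R] [IsDomain R]
    [Algebra R0 R] [Module.Finite R0 R] (hinj : Function.Injective (algebraMap R0 R))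
    (h : CAlg.IsN2 R0) : CAlg.IsN2 R := by
  intro L _ _ _ _ hfin
  haveI : FaithfulSMul R0 R := (faithfulSMul_iff_algebraMap_injective _ _).2 hinj
  let K0 := FractionRing R0
  let K := FractionRing R
  letI : Algebra R0 L := ((algebraMap R L).comp (algebraMap R0 R)).toAlgebra
  haveI : IsScalarTower R0 R L := IsScalarTower.of_algebraMap_eq fun _ => rfl
  haveI : IsScalarTower R0 K L := IsScalarTower.of_algebraMap_eq fun a => by
    rw [IsScalarTower.algebraMap_apply R0 R L, IsScalarTower.algebraMap_apply R K L,
      IsScalarTower.algebraMap_apply R0 R K]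
  letI : Algebra K0 K := FractionRing.liftAlgebra R0 K
  letI : Algebra K0 L := ((algebraMap K L).comp (algebraMap K0 K)).toAlgebra
  haveI : IsScalarTower K0 K L := IsScalarTower.of_algebraMap_eq fun _ => rfl
  haveI : IsScalarTower R0 K0 L := IsScalarTower.of_algebraMap_eq fun a => by
    show algebraMap R0 L a = algebraMap K L (algebraMap K0 K (algebraMap R0 K0 a))
    rw [← IsScalarTower.algebraMap_apply R0 K0 K, ← IsScalarTower.algebraMap_apply R0 K L]
  haveI : Algebra.IsIntegral R0 R := Algebra.IsIntegral.of_finite R0 R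
  haveI : FiniteDimensional K0 K := by
    classical
    obtain ⟨s, hs⟩ := (Module.Finite.fg_top : (⊤ : Submodule R0 R).FG)
    refine ⟨⟨s.image (algebraMap R K), ?_⟩⟩
    rw [Finset.coe_image, eq_top_iff]
    intro z _
    obtain ⟨a, b, hb, rfl⟩ := IsFractionRing.div_surjective (A := R) z
    obtain ⟨r0, hr0, c, hc⟩ := (Algebra.IsIntegral.isIntegral (R := R0) b).isAlgebraic.exists_nonzero_dvd hb
    have hmem : algebraMap R K (a * c) ∈ Submodule.span K0 (algebraMap R K '' (s : Set R)) := by
      have : a * c ∈ Submodule.span R0 (s : Set R) := by rw [hs]; trivial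
      generalize a * c = w at this ⊢
      induction this using Submodule.span_induction with
      | mem x hx => exact Submodule.subset_span ⟨x, hx, rfl⟩
      | zero => rw [map_zero]; exact zero_mem _
      | add x y _ _ hx hy => rw [map_add]; exact add_mem hx hy
      | smul t x _ hx =>
        rw [Algebra.smul_def, map_mul, ← IsScalarTower.algebraMap_apply R0 R K,
          IsScalarTower.algebraMap_apply R0 K0 K, ← Algebra.smul_def]
        exact Submodule.smul_mem _ _ hx
    have : algebraMap R K a / algebraMap R K b = (algebraMap R0 K0 r0)⁻¹ • algebraMap R K (a * c) := by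
      rw [Algebra.smul_def, map_inv₀, ← IsScalarTower.algebraMap_apply R0 K0 K,
        IsScalarTower.algebraMap_apply R0 R K, hc, map_mul, map_mul, inv_mul_eq_div, mul_div_mul_right]
      intro h0
      refine hr0 (hinj ?_)
      rw [hc, (map_eq_zero_iff _ (IsFractionRing.injective R K)).1 h0, mul_zero, map_zero]
    rw [this]
    exact Submodule.smul_mem _ _ hmem
  haveI : FiniteDimensional K0 L := Module.Finite.trans K L
  haveI : Module.Finite R0 (integralClosure R0 L) := h L inferInstance
  haveI : IsNoetherian R0 (integralClosure R0 L) := isNoetherian_of_isNoetherianRing_of_finite R0 _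
  let ι : integralClosure R L →ₗ[R0] integralClosure R0 L :=
    { toFun := fun z => ⟨z.1, isIntegral_trans z.1 z.2⟩, map_add' := fun _ _ => rfl, map_smul' := fun _ _ => rfl }
  haveI : Module.Finite R0 (integralClosure R L) :=
    Module.Finite.of_injective ι fun a b hab => Subtype.ext (congrArg Subtype.val hab :)
  exact Module.Finite.of_restrictScalars_finite R0 R _

/-- Power series in `m` variables over `Λ` map finitely and injectively to `R`. -/
theorem exists_normalization {R : Type u} [CommRing R] [IsDomain R] [IsLocalRing R] [IsNoetherianRing R]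
    [IsAdicComplete (maximalIdeal R) R] {Λ : Type u} [CommRing Λ] [IsDomain Λ] [IsLocalRing Λ] [IsNoetherianRing Λ]
    [IsAdicComplete (maximalIdeal Λ) Λ] (v : Λ →+* R) [IsLocalHom v]
    (hres : Function.Surjective ((residue R).comp v))
    {a m d : ℕ} (π : Fin a → Λ) (hπ : Ideal.span (Set.range π) = maximalIdeal Λ)
    (y : Fin m → R) (hy : ∀ i, y i ∈ maximalIdeal R)
    (hrad : maximalIdeal R ≤ ((maximalIdeal Λ).map v ⊔ Ideal.span (Set.range y)).radical)
    (hd : ringKrullDim R = d) (had : a + m ≤ d) :
    ∃ g : MvPowerSeries (Fin m) Λ →+* R, g.Finite ∧ Function.Injective g ∧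
      IsDomain (MvPowerSeries (Fin m) Λ) := by
  classical
  letI : Algebra Λ R := v.toAlgebra
  obtain ⟨g, hg⟩ := ArtFunLib.ps_exists_lift (Λ := Λ) (maximalIdeal R) y hy
  let R0 := MvPowerSeries (Fin m) Λ
  letI : Algebra R0 R := g.toRingHom.toAlgebra
  let J : Ideal R := (maximalIdeal Λ).map v ⊔ Ideal.span (Set.range y)
  have hmap : J ≤ (maximalIdeal R0).map (algebraMap R0 R) := by
    refine sup_le (Ideal.map_le_iff_le_comap.2 fun l hl => ?_) (Ideal.span_le.2 ?_)
    · rw [Ideal.mem_comap, ← show g (algebraMap Λ R0 l) = v l from g.commutes l]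
      refine Ideal.mem_map_of_mem (algebraMap R0 R) ?_
      rw [mem_maximalIdeal, mem_nonunits_iff, MvPowerSeries.isUnit_iff_constantCoeff]
      simpa [R0, MvPowerSeries.algebraMap_apply, ← mem_nonunits_iff, ← mem_maximalIdeal] using hl
    · rintro _ ⟨i, rfl⟩
      rw [← hg i]
      refine Ideal.mem_map_of_mem (algebraMap R0 R) ?_
      rw [mem_maximalIdeal, mem_nonunits_iff, MvPowerSeries.isUnit_iff_constantCoeff, MvPowerSeries.constantCoeff_X]
      exact not_isUnit_zero
  obtain ⟨N, hN⟩ := Ideal.exists_radical_pow_le_of_fg J J.radical.fg_of_isNoetherianRing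
  have hmN : maximalIdeal R ^ N ≤ (maximalIdeal R0).map (algebraMap R0 R) :=
    (Ideal.pow_right_mono hrad N).trans (hN.trans hmap)
  have hle : (maximalIdeal R0).map (algebraMap R0 R) ≤ maximalIdeal R := by
    refine Ideal.map_le_iff_le_comap.2 fun f hf => ?_
    rw [mem_maximalIdeal, mem_nonunits_iff, MvPowerSeries.isUnit_iff_constantCoeff] at hf
    have h0 : f - MvPowerSeries.C (MvPowerSeries.constantCoeff f) ∈
        RingHom.ker (MvPowerSeries.constantCoeff (σ := Fin m) (R := Λ)) := by simp
    rw [WildQuotLib.ker_constantCoeff_eq] at h0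
    rw [Ideal.mem_comap, show f = (f - MvPowerSeries.C (MvPowerSeries.constantCoeff f)) +
      algebraMap Λ R0 (MvPowerSeries.constantCoeff f) by simp [R0, MvPowerSeries.algebraMap_apply], map_add]
    refine add_mem ?_ ?_
    · have h1 := Ideal.mem_map_of_mem (algebraMap R0 R) h0
      rw [Ideal.map_span] at h1
      refine Ideal.span_le.2 ?_ h1
      rintro _ ⟨_, ⟨i, rfl⟩, rfl⟩
      show g (MvPowerSeries.X i) ∈ maximalIdeal R
      rw [hg i]; exact hy i
    · show g (algebraMap Λ R0 _) ∈ _
      rw [g.commutes, mem_maximalIdeal, mem_nonunits_iff]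
      exact fun hu => hf (IsLocalHom.map_nonunit (f := v) _ hu)
  -- finiteness modulo the maximal ideal
  have hspan : ∀ i, ∃ F : Submodule R0 R, F.FG ∧ (⊤ : Submodule R0 R) ≤ F ⊔ (maximalIdeal R ^ i).restrictScalars R0 := by
    intro i
    induction i with
    | zero => exact ⟨⊥, Submodule.fg_bot, by simp⟩
    | succ i ih =>
      obtain ⟨F, hF, hFle⟩ := ih
      obtain ⟨s, hs⟩ := (maximalIdeal R ^ i).fg_of_isNoetherianRing
      refine ⟨F ⊔ Submodule.span R0 (s : Set R), hF.sup (Submodule.fg_span s.finite_toSet), hFle.trans ?_⟩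
      refine sup_le (le_sup_left.trans le_sup_left) fun z hz => ?_
      rw [Submodule.restrictScalars_mem, ← hs] at hz
      obtain ⟨c, -, rfl⟩ := Submodule.mem_span_finset.1 hz
      refine Submodule.sum_mem _ fun x hx => ?_
      obtain ⟨l, hl⟩ := hres (residue R (c x))
      rw [smul_eq_mul, show c x * x = v l * x + (c x - v l) * x by ring]
      refine add_mem (Submodule.mem_sup_left (Submodule.mem_sup_right ?_)) (Submodule.mem_sup_right ?_)
      · rw [← show g (algebraMap Λ R0 l) = v l from g.commutes l]
        exact Submodule.smul_mem _ (algebraMap Λ R0 l : R0) (Submodule.subset_span hx)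
      · rw [Submodule.restrictScalars_mem, pow_succ']
        refine Ideal.mul_mem_mul ?_ (hs ▸ Submodule.subset_span hx)
        rw [← residue_eq_zero_iff, map_sub, sub_eq_zero]
        exact hl.symm
  obtain ⟨_, _, _, hcompl⟩ := ArtFunLib.exists_psCRing (Λ := Λ) (k := ResidueField Λ) residue_surjective m
  haveI := hcompl
  haveI : IsHausdorff (maximalIdeal R0) R := ⟨fun z hz => by
    refine IsHausdorff.haus (inferInstance : IsHausdorff (maximalIdeal R) R) z fun k => SModEq.zero.2 ?_
    have h1 := SModEq.zero.1 (hz k)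
    rw [Ideal.smul_top_eq_map, Submodule.restrictScalars_mem, Ideal.map_pow] at h1
    rw [smul_eq_mul, Ideal.mul_top]
    exact Ideal.pow_right_mono hle k h1⟩
  obtain ⟨F, hF, hFle⟩ := hspan N
  haveI : Module.Finite R0 F := Module.Finite.iff_fg.2 hF
  haveI hfin : Module.Finite R0 R := by
    refine AdicLemmas.module_finite_of_quotient_finite (maximalIdeal R0) R ?_
    refine Module.Finite.of_surjective ((maximalIdeal R0 • ⊤ : Submodule R0 R).mkQ.comp F.subtype) fun c => ?_
    obtain ⟨z, rfl⟩ := Submodule.mkQ_surjective _ c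
    obtain ⟨f, hf, w, hw, rfl⟩ := Submodule.mem_sup.1 (hFle (show z ∈ ⊤ from trivial))
    refine ⟨⟨f, hf⟩, (Submodule.Quotient.eq _).2 ?_⟩
    rw [Ideal.smul_top_eq_map, Submodule.restrictScalars_mem]
    show f - (f + w) ∈ _
    rw [sub_add_cancel_left]
    exact neg_mem (hmN hw)
  haveI : IsDomain R0 := NoZeroDivisors.to_isDomain _
  refine ⟨g.toRingHom, hfin, ?_, inferInstance⟩
  rw [RingHom.injective_iff_ker_eq_bot, Submodule.eq_bot_iff]
  intro r hr
  by_contra hr0
  let P := RingHom.ker g.toRingHom
  have hP : ringKrullDim (R0 ⧸ P) = ringKrullDim R := by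
    refine GrSegreLib.ringKrullDim_eq_of_integral_injective (RingHom.kerLift g.toRingHom)
      (RingHom.kerLift_injective g.toRingHom) (RingHom.IsIntegral.tower_top (Ideal.Quotient.mk P) _ ?_)
    exact (algebraMap_isIntegral_iff.2 (Algebra.IsIntegral.of_finite R0 R) : (algebraMap R0 R).IsIntegral)
  have h1 : ringKrullDim (R0 ⧸ P) ≤ ringKrullDim (R0 ⧸ Ideal.span {r}) :=
    ringKrullDim_le_of_surjective (Ideal.Quotient.factor ((Ideal.span_singleton_le_iff_mem P).2 hr))
      (Ideal.Quotient.factor_surjective _)
  have h2 := ringKrullDim_quotient_succ_le_of_nonZeroDivisor (mem_nonZeroDivisors_of_ne_zero hr0)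
  have h3 : ringKrullDim R0 ≤ (d : WithBot ℕ∞) := by
    refine (ringKrullDim_le_spanFinrank_maximalIdeal _).trans (Nat.cast_le.2 ?_)
    have hgen : maximalIdeal R0 = Ideal.span (Set.range (fun i => algebraMap Λ R0 (π i)) ∪
        Set.range (MvPowerSeries.X : Fin m → R0)) := by
      refine le_antisymm (fun f hf => ?_) (Ideal.span_le.2 ?_)
      · have h0 : f - MvPowerSeries.C (MvPowerSeries.constantCoeff f) ∈
            RingHom.ker (MvPowerSeries.constantCoeff (σ := Fin m) (R := Λ)) := by simp
        rw [WildQuotLib.ker_constantCoeff_eq] at h0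
        rw [show f = (f - MvPowerSeries.C (MvPowerSeries.constantCoeff f)) +
          algebraMap Λ R0 (MvPowerSeries.constantCoeff f) by simp [R0, MvPowerSeries.algebraMap_apply]]
        refine add_mem (Ideal.span_mono Set.subset_union_right h0) ?_
        have hc : MvPowerSeries.constantCoeff f ∈ maximalIdeal Λ := by
          rw [mem_maximalIdeal, mem_nonunits_iff] at hf ⊢
          rwa [MvPowerSeries.isUnit_iff_constantCoeff] at hf
        rw [← hπ] at hc
        have := Ideal.mem_map_of_mem (algebraMap Λ R0) hc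
        rw [Ideal.map_span, ← Set.range_comp] at this
        exact Ideal.span_mono Set.subset_union_left this
      · intro f hf
        rw [SetLike.mem_coe, mem_maximalIdeal, mem_nonunits_iff, MvPowerSeries.isUnit_iff_constantCoeff]
        rcases hf with ⟨i, rfl⟩ | ⟨i, rfl⟩
        · have : π i ∈ maximalIdeal Λ := hπ ▸ Ideal.subset_span ⟨i, rfl⟩
          simpa [R0, MvPowerSeries.algebraMap_apply, ← mem_nonunits_iff, ← mem_maximalIdeal] using this
        · simp
    rw [hgen]
    refine (Submodule.spanFinrank_span_le_ncard_of_finite ((Set.finite_range _).union (Set.finite_range _))).trans ?_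
    refine (Set.ncard_union_le _ _).trans (le_trans (Nat.add_le_add ?_ ?_) had)
    · rw [← Set.image_univ]
      exact (Set.ncard_image_le Set.finite_univ).trans (by simp [Set.ncard_univ])
    · rw [← Set.image_univ]
      exact (Set.ncard_image_le Set.finite_univ).trans (by simp [Set.ncard_univ])
  rw [hP, hd] at h1
  have h4 : (d : WithBot ℕ∞) + 1 ≤ d := (add_le_add_left h1 1).trans (h2.trans h3)
  have h5 : ((d + 1 : ℕ) : WithBot ℕ∞) ≤ (d : WithBot ℕ∞) := by push_cast; exact h4
  have : d + 1 ≤ d := by exact_mod_cast h5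
  omega

/-- **Nagata.** A complete Noetherian local domain is N-2. -/
theorem isN2_complete (R : Type u) [CommRing R] [IsDomain R] [IsLocalRing R] [IsNoetherianRing R]
    [IsAdicComplete (maximalIdeal R) R] : CAlg.IsN2 R := by
  classical
  by_cases hf : IsField R
  · letI := hf.toField
    exact isN2_of_isField R
  obtain ⟨d, hd⟩ := RegLocal.exists_nat_ringKrullDim (R := R)
  have hd1 : 1 ≤ d := by
    by_contra h
    have h0 : ringKrullDim R = 0 := by rw [hd]; norm_num; omega
    haveI : Ring.KrullDimLE 0 R := Ring.krullDimLE_iff.2 h0.le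
    exact hf Ring.KrullDimLE.isField_of_isDomain
  have hsop : ∀ {f : R}, f ∈ maximalIdeal R → f ≠ 0 →
      ∃ y : Fin (d - 1) → R, (∀ i, y i ∈ maximalIdeal R) ∧
        maximalIdeal R ≤ (Ideal.span (insert f (Set.range y))).radical := fun {f} hfm hf0 => by
    obtain ⟨y, -, hy, hrad⟩ := SopLib.exists_sop_extending hd hfm (fun p hp hfp => hf0 (by
      rw [show p = ⊥ by simpa [IsDomain.minimalPrimes_eq_singleton_bot] using hp] at hfp
      simpa using hfp)) 0
    exact ⟨y, hy, hrad⟩
  -- equicharacteristic case
  have equi : ∀ (k₀ : Type u) [Field k₀] [Algebra k₀ R], CAlg.IsN2 R := by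
    intro k₀ _ _
    obtain ⟨s, hs⟩ := PSStructLib.exists_coefficientField R k₀
    obtain ⟨f, hfm, hf0⟩ : ∃ f ∈ maximalIdeal R, f ≠ 0 :=
      Submodule.exists_mem_ne_zero_of_ne_bot fun h => hf (isField_iff_maximalIdeal_eq.2 h)
    obtain ⟨y, hy, hrad⟩ := hsop hfm hf0
    haveI : IsLocalHom s := ⟨fun c hc => isUnit_iff_ne_zero.2 fun h0 => by
      rw [h0, map_zero] at hc; exact not_isUnit_zero hc⟩
    haveI : IsAdicComplete (maximalIdeal (ResidueField R)) (ResidueField R) := by
      rw [isField_iff_maximalIdeal_eq.1 (Field.toIsField _)]; infer_instance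
    obtain ⟨g, hg, hginj, hdom⟩ := exists_normalization (a := 0) (m := d - 1 + 1) (Λ := ResidueField R) s
      (fun c => ⟨c, hs c⟩) Fin.elim0 (by
        rw [isField_iff_maximalIdeal_eq.1 (Field.toIsField _), Set.range_eq_empty Fin.elim0, Ideal.span_empty])
      (Fin.snoc y f) (fun i => by
        refine Fin.lastCases ?_ (fun j => ?_) i
        · simpa using hfm
        · simpa using hy j)
      (hrad.trans (Ideal.radical_mono (le_sup_of_le_right (Ideal.span_mono (by
        rintro _ (rfl | ⟨i, rfl⟩)
        · exact ⟨Fin.last _, by simp⟩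
        · exact ⟨i.castSucc, by simp⟩)))))
      hd (by omega)
    letI := g.toAlgebra
    haveI : Module.Finite _ R := hg
    haveI := hdom
    exact isN2_of_finite hginj (isN2_mvPowerSeries _ _)
  obtain ⟨p, hp⟩ := CharP.exists R
  rcases CharP.char_is_prime_or_zero R p with hpr | rfl
  · haveI := Fact.mk hpr
    exact @equi (ULift.{u} (ZMod p)) _ (((ZMod.castHom (dvd_refl p) R).comp
      ULift.ringEquiv.toRingHom).toAlgebra)
  haveI : CharZero R := CharP.charP_to_charZero R
  obtain ⟨q, hq⟩ := CharP.exists (ResidueField R)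
  rcases CharP.char_is_prime_or_zero (ResidueField R) q with hqp | rfl
  swap
  · haveI : CharZero (ResidueField R) := CharP.charP_to_charZero _
    let j : ℚ →+* R := IsLocalization.lift (M := nonZeroDivisors ℤ) (g := Int.castRingHom R) fun z => by
      by_contra hu
      have : (Int.castRingHom R z.1) ∈ maximalIdeal R := hu
      rw [← residue_eq_zero_iff, eq_intCast, map_intCast, Int.cast_eq_zero] at this
      exact nonZeroDivisors.coe_ne_zero z this
    exact @equi (ULift.{u} ℚ) _ ((j.comp ULift.ringEquiv.toRingHom).toAlgebra)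
  -- mixed characteristic
  have hqm : (q : R) ∈ maximalIdeal R := by
    rw [← residue_eq_zero_iff, map_natCast, CharP.cast_eq_zero]
  obtain ⟨W, _, _, hW, hW', ⟨e⟩⟩ := CohenRingLib.exists_cohenRing (ResidueField R)
  obtain ⟨v, hv, hve⟩ := CohenRingLib.exists_lift_residue hW e.toRingHom
  haveI := hv
  haveI := CohenRingLib.isDomain_of_cohen hW
  haveI := CohenRingLib.noetherian_of_cohen hW
  haveI := CohenRingLib.isAdicComplete_of_cohen hW
  haveI : CharP (ResidueField W) q := charP_of_injective_ringHom (f := e.symm.toRingHom) e.symm.injective q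
  obtain ⟨y, hy, hrad⟩ := hsop hqm (Nat.cast_ne_zero.2 hqp.ne_zero)
  obtain ⟨g, hg, hginj, hdom⟩ := exists_normalization (a := 1) (m := d - 1) v
    (fun c => by
      obtain ⟨w, hw⟩ := residue_surjective (e.symm c)
      exact ⟨w, by rw [RingHom.comp_apply, hve, hw]; simp⟩)
    (fun _ => (q : W)) (by rw [Set.range_const, CohenRingLib.maximalIdeal_of_cohen hW q])
    y hy
    (hrad.trans (Ideal.radical_mono (Ideal.span_le.2 (by
      rintro _ (rfl | ⟨i, rfl⟩)
      · refine Ideal.mem_sup_left ?_
        rw [CohenRingLib.maximalIdeal_of_cohen hW q, Ideal.map_span, Set.image_singleton, map_natCast]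
        exact Ideal.mem_span_singleton_self _
      · exact Ideal.mem_sup_right (Ideal.subset_span ⟨i, rfl⟩)))))
    hd (by omega)
  let R0 := MvPowerSeries (Fin (d - 1)) W
  haveI : IsDomain R0 := hdom
  letI : Algebra R0 R := g.toAlgebra
  haveI : Module.Finite R0 R := hg
  haveI : IsRegularRing W := by
    rcases hW with ⟨hf, -⟩ | ⟨_, hdvr, -⟩
    · letI := hf.toField; infer_instance
    · haveI := hdvr; infer_instance
  haveI : IsRegularRing R0 := S5784.result W (d - 1)
  haveI : IsRegularLocalRing R0 := IsRegularLocalRing.of_isRegularRing_of_isLocalRing R0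
  haveI := RegLocal.ufd R0
  haveI : IsIntegrallyClosed R0 := UniqueFactorizationMonoid.instIsIntegrallyClosed
  haveI : CharZero R0 := ⟨fun a b h => Nat.cast_injective (R := R) (by simpa using congrArg g h)⟩
  exact isN2_of_finite hginj ((S0574.result R0).1 (isN1_of_isIntegrallyClosed R0))

end Groth.Agent.NagataCompleteLib
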