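import Groth.Agent.NagataCompleteLib.Complete
import Groth.Agent.RedStableLib.Basic
import Groth.Agent.FiniteCompleteLib.Basic

/-!
# N-2 from reduced base changes to a faithfully flat ring with N-2 quotients
-/

set_option autoImplicit false
set_option backward.isDefEq.respectTransparency false
set_option maxHeartbeats 1000000
universe u
open TensorProduct

noncomputable section

namespace Groth.Agent.NagataCompleteLib

theorem finite_integralClosure_of_reduced (A B : Type u) [CommRing A] [IsDomain A] [CommRing B] [Algebra A B]
    [IsNoetherianRing B] [Module.FaithfullyFlat A B]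
    (hJ : ∀ (q : Ideal B) [q.IsPrime], q ∈ minimalPrimes B → CAlg.IsN2 (B ⧸ q))
    (L : Type u) [Field L] [Algebra A L] [Algebra (FractionRing A) L] [IsScalarTower A (FractionRing A) L]
    [FiniteDimensional (FractionRing A) L] [IsReduced (B ⊗[A] L)] :
    Module.Finite A (integralClosure A L) := by
  classical
  obtain ⟨Lt, _, _, Ψ, M, hker, hM, hint⟩ := RedStableLib.exists_target (A := A) (B := B) (K' := L) hJ
  let A' := integralClosure A L
  let φ : B ⊗[A] A' →ₐ[B] B ⊗[A] L := Algebra.TensorProduct.map (AlgHom.id B B) A'.val
  have hφ : Function.Injective φ :=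
    Module.Flat.lTensor_preserves_injective_linearMap A'.val.toLinearMap Subtype.val_injective
  haveI : Algebra.IsIntegral B (B ⊗[A] A') := ⟨fun z => by
    induction z using TensorProduct.induction_on with
    | zero => exact isIntegral_zero
    | add x y hx hy => exact hx.add hy
    | tmul b a =>
      rw [show b ⊗ₜ[A] a = algebraMap B (B ⊗[A] A') b * Algebra.TensorProduct.includeRight a by simp]
      exact isIntegral_algebraMap.mul
        (IsIntegral.tower_top (R := A) ((IsIntegralClosure.isIntegral A L a).map
          (Algebra.TensorProduct.includeRight : A' →ₐ[A] B ⊗[A] A')))⟩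
  haveI : IsNoetherian B M := isNoetherian_of_fg_of_noetherian M hM
  let j : B ⊗[A] A' →ₗ[B] M := (Ψ.comp φ).toLinearMap.codRestrict M
    fun z => hint _ ((Algebra.IsIntegral.isIntegral (R := B) z).map φ)
  have hj : Function.Injective j := (injective_iff_map_eq_zero j).2 fun z hz =>
    hφ ((IsReduced.eq_zero _ (hker _ (congrArg Subtype.val hz :))).trans (map_zero φ).symm)
  haveI : Module.Finite B (B ⊗[A] A') := Module.Finite.of_injective j hj
  obtain ⟨t, ht⟩ := (Module.Finite.fg_top : (⊤ : Submodule B (B ⊗[A] A')).FG)
  choose S hS using fun z : B ⊗[A] A' => TensorProduct.exists_finset z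
  let G : Finset A' := t.biUnion fun z => (S z).image Prod.snd
  let N : Submodule A A' := Submodule.span A (G : Set A')
  have hsurj : Function.Surjective (N.subtype.lTensor B) := by
    intro z
    have hz : z ∈ Submodule.span B (t : Set (B ⊗[A] A')) := by rw [ht]; trivial
    induction hz using Submodule.span_induction with
    | mem x hx =>
      rw [← LinearMap.mem_range, hS x]
      refine Submodule.sum_mem _ fun i hi => ?_
      exact ⟨i.1 ⊗ₜ ⟨i.2, Submodule.subset_span (Finset.mem_biUnion.2 ⟨x, hx, Finset.mem_image_of_mem _ hi⟩)⟩, rfl⟩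
    | zero => exact ⟨0, map_zero _⟩
    | add x y _ _ hx hy =>
      obtain ⟨x', rfl⟩ := hx
      obtain ⟨y', rfl⟩ := hy
      exact ⟨x' + y', map_add _ _ _⟩
    | smul b x _ hx =>
      obtain ⟨x', rfl⟩ := hx
      exact ⟨b • x', (N.subtype.baseChange B).map_smul b x'⟩
  have hNtop := (Module.FaithfullyFlat.lTensor_surjective_iff_surjective (R := A) (M := B) N.subtype).1 hsurj
  haveI : Module.Finite A N := Module.Finite.span_of_finite A G.finite_toSet
  exact Module.Finite.of_surjective N.subtype hNtop

theorem isN2_quot_complete {R : Type u} [CommRing R] [IsLocalRing R] [IsNoetherianRing R]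
    [IsAdicComplete (IsLocalRing.maximalIdeal R) R] (C : Type u) [CommRing C] [IsDomain C] [Algebra R C]
    (hs : Function.Surjective (algebraMap R C)) : CAlg.IsN2 C := by
  haveI : Module.Finite R C := Module.Finite.of_surjective (Algebra.linearMap R C) hs
  haveI : IsLocalRing C := IsLocalRing.of_surjective' (algebraMap R C) hs
  haveI : IsNoetherianRing C := isNoetherianRing_of_surjective R C (algebraMap R C) hs
  haveI := FiniteCompleteLib.isAdicComplete_maximalIdeal R C
  exact isN2_complete C

end Groth.Agent.NagataCompleteLib
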