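import Groth.Agent.NagataCompleteLib.Unramified
import Groth.Agent.RegLocal.Completion
import Groth.Agent.RegLocLib.NorLocus
import Groth.Prelude.Def_EGA4b

/-!
# Quasi-excellent rings are Nagata
-/

set_option autoImplicit false
set_option backward.isDefEq.respectTransparency false
set_option maxHeartbeats 1000000
universe u
open scoped TensorProduct

noncomputable section

namespace Groth.Agent.NagataCompleteLib

theorem isN2_quot_of_reduced_fibres (A : Type u) [CommRing A] [IsNoetherianRing A] [IsLocalRing A]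
    (p : Ideal A) [p.IsPrime]
    (hA : ∀ (L : Type u) [Field L] [Algebra p.ResidueField L], Module.Finite p.ResidueField L →
      IsReduced (L ⊗[p.ResidueField] EGA4.formalFibre A p)) :
    CAlg.IsN2 (A ⧸ p) := by
  classical
  let Ah := EGA4.Cpl A
  haveI : IsNoetherianRing Ah := Groth.Agent.RegLocal.isNoetherianRing_adicCompletion _ (IsLocalRing.maximalIdeal A).fg_of_isNoetherianRing
  haveI : Module.FaithfullyFlat A Ah := Groth.Agent.RegLocal.faithfullyFlat_completion A _ (IsLocalRing.maximalIdeal.isMaximal A).ne_top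
  haveI : IsAdicComplete (IsLocalRing.maximalIdeal Ah) Ah := by
    show IsAdicComplete (IsLocalRing.maximalIdeal (AdicCompletion (IsLocalRing.maximalIdeal A) A)) (AdicCompletion (IsLocalRing.maximalIdeal A) A)
    rw [AdicCompletion.maximalIdeal_eq_map_of_fg (IsLocalRing.maximalIdeal A).fg_of_isNoetherianRing]
    exact AdicCompletion.isAdicComplete_self _ (IsLocalRing.maximalIdeal A).fg_of_isNoetherianRing
  intro L _ _ _ _ hfin
  let B := (A ⧸ p) ⊗[A] Ah
  let σ : Ah →+* B := (Algebra.TensorProduct.includeRight : Ah →ₐ[A] B).toRingHom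
  have hσ : Function.Surjective σ := by
    intro z
    induction z using TensorProduct.induction_on with
    | zero => exact ⟨0, map_zero _⟩
    | add x y hx hy =>
      obtain ⟨x', rfl⟩ := hx
      obtain ⟨y', rfl⟩ := hy
      exact ⟨x' + y', map_add _ _ _⟩
    | tmul q b =>
      obtain ⟨a, rfl⟩ := Ideal.Quotient.mk_surjective q
      refine ⟨a • b, ?_⟩
      show (1 : A ⧸ p) ⊗ₜ[A] (a • b) = _
      rw [← TensorProduct.smul_tmul, Algebra.smul_def, mul_one]
      rfl
  letI : Algebra Ah B := σ.toAlgebra
  haveI : IsNoetherianRing B := isNoetherianRing_of_surjective Ah B σ hσ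
  have hJ : ∀ (q : Ideal B) [q.IsPrime], q ∈ minimalPrimes B → CAlg.IsN2 (B ⧸ q) := fun q _ _ => by
    exact isN2_quot_complete (R := Ah) (B ⧸ q) (Ideal.Quotient.mk_surjective.comp hσ)
  let K := FractionRing (A ⧸ p)
  let κ := p.ResidueField
  let e : K ≃ₐ[A ⧸ p] κ := FractionRing.algEquiv (A ⧸ p) κ
  letI : Algebra κ L := ((algebraMap K L).comp e.symm.toRingHom).toAlgebra
  letI : Algebra A L := ((algebraMap (A ⧸ p) L).comp (Ideal.Quotient.mk p)).toAlgebra
  haveI : IsScalarTower A (A ⧸ p) L := IsScalarTower.of_algebraMap_eq fun _ => rfl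
  haveI : IsScalarTower A κ L := IsScalarTower.of_algebraMap_eq fun a => by
    show algebraMap (A ⧸ p) L (Ideal.Quotient.mk p a) = algebraMap K L (e.symm (algebraMap A κ a))
    rw [IsScalarTower.algebraMap_apply A (A ⧸ p) κ, AlgEquiv.commutes, ← IsScalarTower.algebraMap_apply (A ⧸ p) K L]
    rfl
  haveI : FiniteDimensional κ L := by
    letI : Algebra K κ := e.toRingHom.toAlgebra
    haveI : IsScalarTower K κ L := IsScalarTower.of_algebraMap_eq fun x => by
      show algebraMap K L x = algebraMap K L (e.symm (e x))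
      rw [AlgEquiv.symm_apply_apply]
    exact Module.Finite.of_restrictScalars_finite K κ L
  haveI : IsReduced (L ⊗[κ] (κ ⊗[A] Ah)) := hA L inferInstance
  haveI : IsReduced (B ⊗[A ⧸ p] L) := by
    have e1 : B ⊗[A ⧸ p] L ≃ₐ[A ⧸ p] L ⊗[A ⧸ p] B := Algebra.TensorProduct.comm (A ⧸ p) B L
    let e2 : L ⊗[A ⧸ p] B ≃ₐ[A ⧸ p] L ⊗[A] Ah := Algebra.TensorProduct.cancelBaseChange A (A ⧸ p) (A ⧸ p) L Ah
    let e3 : L ⊗[κ] (κ ⊗[A] Ah) ≃ₐ[κ] L ⊗[A] Ah := Algebra.TensorProduct.cancelBaseChange A κ κ L Ah
    exact isReduced_of_injective (e3.symm.toRingEquiv.toRingHom.comp (e1.trans e2).toRingEquiv.toRingHom)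
      (e3.symm.injective.comp (e1.trans e2).injective)
  exact finite_integralClosure_of_reduced (A ⧸ p) B hJ L


theorem isReduced_of_isRegularRing (R : Type u) [CommRing R] [IsRegularRing R] : IsReduced R :=
  isReduced_ofLocalizationMaximal R fun m _ => by
    haveI : IsRegularLocalRing (Localization.AtPrime m) := IsRegularRing.isRegularLocalRing_localization m
    haveI := RegLocal.isDomain (R := Localization.AtPrime m)
    infer_instance

/-- A domain whose localizations are N-2 and all whose finite extension domains have open normal locus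
is N-2. -/
theorem isN2_of_open_norLocus (R : Type u) [CommRing R] [IsDomain R] [IsNoetherianRing R]
    (hloc : ∀ (p : Ideal R) [p.IsPrime], CAlg.IsN2 (Localization.AtPrime p))
    (hopen : ∀ (C : Type u) [CommRing C] [IsDomain C] [Algebra R C], Module.Finite R C →
      IsOpen (EGA4.norLocus C)) : CAlg.IsN2 R := by
  classical
  intro L _ _ _ _ hfin
  let K0 := FractionRing R
  obtain ⟨C0, hC0⟩ := RedStableLib.exists_PP (A := R) (K' := L)
  haveI := hC0.1
  -- a finite algebra which is normal over `p`
  have key : ∀ p : PrimeSpectrum R, ∃ (C : Subalgebra R L), RedStableLib.PP C ∧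
      ∀ z ∈ integralClosure R L, ∃ r ∉ p.asIdeal, r • z ∈ C := by
    intro p
    let Rp := Localization.AtPrime p.asIdeal
    have hunit : ∀ s : p.asIdeal.primeCompl, IsUnit (algebraMap R L s) := fun s => by
      rw [isUnit_iff_ne_zero, IsScalarTower.algebraMap_apply R K0 L, ne_eq, map_eq_zero_iff _ (algebraMap K0 L).injective,
        map_eq_zero_iff _ (IsFractionRing.injective R K0)]
      exact fun h0 => s.2 (h0 ▸ zero_mem _)
    letI : Algebra Rp L := (IsLocalization.lift hunit : Rp →+* L).toAlgebra
    haveI : IsScalarTower R Rp L := IsScalarTower.of_algebraMap_eq fun r => (IsLocalization.lift_eq hunit r).symm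
    haveI : IsFractionRing Rp K0 := IsFractionRing.isFractionRing_of_isDomain_of_isLocalization p.asIdeal.primeCompl Rp K0
    haveI : IsScalarTower Rp K0 L := IsScalarTower.of_algebraMap_eq fun r => by
      refine RingHom.congr_fun (IsLocalization.ringHom_ext p.asIdeal.primeCompl (RingHom.ext fun a => ?_) :
        (algebraMap Rp L) = (algebraMap K0 L).comp (algebraMap Rp K0)) r
      rw [RingHom.comp_apply, RingHom.comp_apply, RingHom.comp_apply, ← IsScalarTower.algebraMap_apply R Rp K0,
        ← IsScalarTower.algebraMap_apply R K0 L, ← IsScalarTower.algebraMap_apply R Rp L]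
    haveI hf := N2Lib.finite_of_isN2 (hloc p.asIdeal) K0 L
    obtain ⟨G, hG⟩ := (Module.Finite.iff_fg (N := Subalgebra.toSubmodule (integralClosure Rp L))).1 hf
    choose s hs using fun g : L => fun hg : g ∈ G =>
      IsIntegral.exists_multiple_integral_of_isLocalization p.asIdeal.primeCompl g
        (show g ∈ Subalgebra.toSubmodule (integralClosure Rp L) from hG ▸ Submodule.subset_span hg)
    let G' : Set L := Set.range fun g : G => (s g.1 g.2 : R) • g.1
    haveI : Module.Finite R (Algebra.adjoin R G') := Module.Finite.iff_fg.2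
      (fg_adjoin_of_finite (Set.finite_range _) (by rintro _ ⟨g, rfl⟩; exact hs g.1 g.2))
    let C := C0 ⊔ Algebra.adjoin R G'
    refine ⟨C, hC0.sup inferInstance, fun z hz => ?_⟩
    have hz' : z ∈ Submodule.span Rp (G : Set L) := by
      rw [hG]; exact IsIntegral.tower_top (show IsIntegral R z from hz)
    clear hz
    induction hz' using Submodule.span_induction with
    | mem g hg => exact ⟨s g hg, (s g hg).2, (le_sup_right : _ ≤ C) (Algebra.subset_adjoin ⟨⟨g, hg⟩, rfl⟩)⟩
    | zero => exact ⟨1, p.asIdeal.primeCompl.one_mem, by simp⟩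
    | add x y _ _ hx hy =>
      obtain ⟨r, hr, hrx⟩ := hx
      obtain ⟨r', hr', hry⟩ := hy
      refine ⟨r * r', p.asIdeal.primeCompl.mul_mem hr hr', ?_⟩
      rw [smul_add, mul_smul, mul_smul, smul_comm r r' x]
      exact add_mem (C.smul_mem hrx r') (C.smul_mem hry r)
    | smul a x _ hx =>
      obtain ⟨r, hr, hrx⟩ := hx
      obtain ⟨⟨b, t⟩, hbt⟩ := IsLocalization.surj p.asIdeal.primeCompl a
      refine ⟨(t : R) * r, p.asIdeal.primeCompl.mul_mem t.2 hr, ?_⟩
      have : ((t : R) * r) • a • x = b • (r • x) := by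
        simp only [Algebra.smul_def, map_mul]
        have h := congrArg (algebraMap Rp L) hbt
        rw [map_mul, ← IsScalarTower.algebraMap_apply, ← IsScalarTower.algebraMap_apply] at h
        linear_combination (algebraMap R L r * x) * h
      rw [this]
      exact C.smul_mem hrx b
  choose C hC hCp using key
  -- the open set where `C p` is normal
  let U : PrimeSpectrum R → Set (PrimeSpectrum R) := fun p =>
    (PrimeSpectrum.comap (algebraMap R (C p)) '' (EGA4.norLocus (C p))ᶜ)ᶜ
  have hUo : ∀ p, IsOpen (U p) := fun p => by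
    haveI := (hC p).1
    haveI : Algebra.IsIntegral R (C p) := Algebra.IsIntegral.of_finite R _
    refine ((PrimeSpectrum.isClosedMap_comap_of_isIntegral _ (algebraMap_isIntegral_iff.2 inferInstance)) _ ?_).isOpen_compl
    exact (hopen (C p) inferInstance).isClosed_compl
  have hUp : ∀ p, p ∈ U p := by
    intro p
    haveI := (hC p).1
    rintro ⟨P, hP, hPp⟩
    apply hP
    let CP := Localization.AtPrime P.asIdeal
    refine ⟨IsLocalization.isDomain_of_le_nonZeroDivisors CP P.asIdeal.primeCompl_le_nonZeroDivisors, ?_⟩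
    haveI : IsFractionRing (C p) L := IsFractionRing.of_field (C p) L fun z => by
      obtain ⟨a, b, hb, hab⟩ := (hC p).2 z
      exact ⟨a, b, (eq_div_iff hb).2 hab⟩
    haveI : IsDomain CP := IsLocalization.isDomain_of_le_nonZeroDivisors CP P.asIdeal.primeCompl_le_nonZeroDivisors
    have hunit : ∀ s : P.asIdeal.primeCompl, IsUnit (algebraMap (C p) L s) := fun s => by
      rw [isUnit_iff_ne_zero, ne_eq, map_eq_zero_iff _ (IsFractionRing.injective (C p) L)]
      exact fun h0 => s.2 (h0 ▸ zero_mem _)
    letI : Algebra CP L := (IsLocalization.lift hunit : CP →+* L).toAlgebra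
    haveI : IsScalarTower (C p) CP L := IsScalarTower.of_algebraMap_eq fun r => (IsLocalization.lift_eq hunit r).symm
    haveI : IsFractionRing CP L := IsFractionRing.isFractionRing_of_isDomain_of_isLocalization P.asIdeal.primeCompl CP L
    refine (isIntegrallyClosed_iff L).2 fun {z} hz => ?_
    obtain ⟨c, hc⟩ := IsIntegral.exists_multiple_integral_of_isLocalization P.asIdeal.primeCompl z hz
    haveI : Algebra.IsIntegral R (C p) := Algebra.IsIntegral.of_finite R _
    obtain ⟨r, hr, hrz⟩ := hCp p _ (isIntegral_trans (R := R) (A := C p) _ hc)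
    let d : C p := algebraMap R (C p) r * (c : C p)
    have hd : d ∈ P.asIdeal.primeCompl := P.asIdeal.primeCompl.mul_mem
      (fun h0 => hr (by rw [← hPp]; exact h0)) c.2
    refine ⟨IsLocalization.mk' CP (⟨_, hrz⟩ : C p) ⟨d, hd⟩, ?_⟩
    apply (hunit ⟨d, hd⟩).mul_left_injective
    show algebraMap CP L _ * algebraMap (C p) L d = z * algebraMap (C p) L d
    rw [IsScalarTower.algebraMap_apply (C p) CP L d, ← map_mul, IsLocalization.mk'_spec,
      ← IsScalarTower.algebraMap_apply, ← IsScalarTower.algebraMap_apply]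
    show r • ((c : C p) • z) = z * (algebraMap R L r * ((c : C p) : L))
    rw [Algebra.smul_def, Algebra.smul_def]
    show algebraMap R L r * (((c : C p) : L) * z) = _
    ring
  obtain ⟨F, hF⟩ := isCompact_univ.elim_finite_subcover U hUo fun p _ => Set.mem_iUnion.2 ⟨p, hUp p⟩
  obtain ⟨D, hD⟩ : ∃ D : Subalgebra R L, RedStableLib.PP D ∧ ∀ q ∈ F, C q ≤ D := by
    clear hF
    induction F using Finset.induction with
    | empty => exact ⟨C0, hC0, fun q hq => absurd hq (Finset.notMem_empty q)⟩
    | insert a s ha ih =>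
      obtain ⟨D, ih1, ih2⟩ := ih
      refine ⟨C a ⊔ D, (hC a).sup ih1.1, fun q hq => ?_⟩
      rcases Finset.mem_insert.1 hq with rfl | hq
      · exact le_sup_left
      · exact (ih2 q hq).trans le_sup_right
  have hle : integralClosure R L ≤ D := by
    intro z hz
    let I : Ideal R := (Subalgebra.toSubmodule D).comap (LinearMap.toSpanSingleton R L z)
    suffices hI : I = ⊤ by
      have h1 : (1 : R) ∈ I := hI ▸ trivial
      rw [Submodule.mem_comap, LinearMap.toSpanSingleton_apply, one_smul] at h1
      exact h1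
    by_contra hne
    obtain ⟨m, hm, hIm⟩ := Ideal.exists_le_maximal I hne
    obtain ⟨q, hqF, hqm⟩ := Set.mem_iUnion₂.1 (hF (Set.mem_univ ⟨m, hm.isPrime⟩))
    haveI := (hC q).1
    haveI : Algebra.IsIntegral R (C q) := Algebra.IsIntegral.of_finite R _
    let J : Ideal (C q) := (Subalgebra.toSubmodule (⊥ : Subalgebra (C q) L)).comap (LinearMap.toSpanSingleton (C q) L z)
    have hJmem : ∀ c : C q, c ∈ J ↔ (c : L) * z ∈ C q := fun c => by
      rw [Submodule.mem_comap, LinearMap.toSpanSingleton_apply, Subalgebra.mem_toSubmodule, Algebra.mem_bot]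
      exact ⟨fun ⟨y, hy⟩ => (show ((c : L) * z) = (y : L) from hy.symm) ▸ y.2, fun h => ⟨⟨_, h⟩, rfl⟩⟩
    have hJm : J.comap (algebraMap R (C q)) ≤ m := fun r hr => hIm (by
      rw [Submodule.mem_comap, LinearMap.toSpanSingleton_apply, Subalgebra.mem_toSubmodule, Algebra.smul_def]
      exact hD.2 q hqF ((hJmem _).1 hr))
    obtain ⟨P, hJP, hP, hPm⟩ := Ideal.exists_ideal_over_prime_of_isIntegral m J hJm
    have hnor : (⟨P, hP⟩ : PrimeSpectrum (C q)) ∈ EGA4.norLocus (C q) :=
      by_contra fun h => hqm ⟨⟨P, hP⟩, h, PrimeSpectrum.ext hPm⟩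
    haveI : IsIntegrallyClosed (Localization.AtPrime P) := hnor.2
    let CP := Localization.AtPrime P
    haveI : IsFractionRing (C q) L := IsFractionRing.of_field (C q) L fun z => by
      obtain ⟨a, b, hb, hab⟩ := (hC q).2 z
      exact ⟨a, b, (eq_div_iff hb).2 hab⟩
    haveI : IsDomain CP := hnor.1
    have hunit : ∀ s : P.primeCompl, IsUnit (algebraMap (C q) L s) := fun s => by
      rw [isUnit_iff_ne_zero, ne_eq, map_eq_zero_iff _ (IsFractionRing.injective (C q) L)]
      exact fun h0 => s.2 (h0 ▸ zero_mem _)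
    letI : Algebra CP L := (IsLocalization.lift hunit : CP →+* L).toAlgebra
    haveI : IsScalarTower (C q) CP L := IsScalarTower.of_algebraMap_eq fun r => (IsLocalization.lift_eq hunit r).symm
    haveI : IsFractionRing CP L := IsFractionRing.isFractionRing_of_isDomain_of_isLocalization P.primeCompl CP L
    obtain ⟨w, hw⟩ := IsIntegrallyClosed.isIntegral_iff.1
      (IsIntegral.tower_top (A := CP) (IsIntegral.tower_top (A := C q) (show IsIntegral R z from hz)))
    obtain ⟨⟨n, d⟩, hnd⟩ := IsLocalization.surj P.primeCompl w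
    apply d.2
    apply hJP
    rw [hJmem]
    have h := congrArg (algebraMap CP L) hnd
    rw [map_mul, hw, ← IsScalarTower.algebraMap_apply, ← IsScalarTower.algebraMap_apply] at h
    rw [show ((d : C q) : L) * z = (n : L) by rw [mul_comm]; exact h]
    exact n.2
  haveI := hD.1.1
  haveI : IsNoetherian R D := isNoetherian_of_isNoetherianRing_of_finite R D
  exact Module.Finite.of_injective (Subalgebra.inclusion hle).toLinearMap (Subalgebra.inclusion_injective hle)

end Groth.Agent.NagataCompleteLib
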