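import Mathlib
import Groth.Prelude.Def_Found
import Groth.Agent.AdicLemmas.Basic
import Groth.Agent.N2Lib.Basic
import Groth.Agent.S0574

/-!
# Japanese rings: reduction to purely inseparable extensions and Tate's lemma
-/

set_option autoImplicit false
set_option backward.isDefEq.respectTransparency false
set_option maxHeartbeats 1000000
universe u

noncomputable section

namespace Groth.Agent.NagataCompleteLib

theorem finite_of_algHom {R L L' : Type u} [CommRing R] [IsNoetherianRing R] [Field L] [Field L']
    [Algebra R L] [Algebra R L'] (j : L →ₐ[R] L') [Module.Finite R (integralClosure R L')] :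
    Module.Finite R (integralClosure R L) := by
  haveI : IsNoetherian R (integralClosure R L') := isNoetherian_of_isNoetherianRing_of_finite R _
  let φ : integralClosure R L →ₗ[R] integralClosure R L' :=
    { toFun := fun z => ⟨j z.1, z.2.map j⟩
      map_add' := fun _ _ => Subtype.ext (map_add j _ _)
      map_smul' := fun _ _ => Subtype.ext (map_smul j _ _) }
  exact Module.Finite.of_injective φ fun a b h =>
    Subtype.ext (j.toRingHom.injective (congrArg Subtype.val h :))

/-- `A` is N-2 once integral closures in purely inseparable extensions are finite. -/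
theorem isN2_of_purelyInseparable (A : Type u) [CommRing A] [IsDomain A] [IsNoetherianRing A]
    (h : ∀ (K' : Type u) [Field K'] [Algebra A K'] [Algebra (FractionRing A) K']
      [IsScalarTower A (FractionRing A) K'], FiniteDimensional (FractionRing A) K' →
      IsPurelyInseparable (FractionRing A) K' → Module.Finite A (integralClosure A K')) :
    CAlg.IsN2 A := by
  intro L _ _ _ _ hfin
  classical
  let K := FractionRing A
  let N := IntermediateField.normalClosure K L (AlgebraicClosure L)
  haveI : FiniteDimensional K N := inferInstance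
  haveI : Normal K N := inferInstance
  let F : IntermediateField K N := IntermediateField.fixedField (⊤ : Subgroup (N ≃ₐ[K] N))
  haveI : IsPurelyInseparable K F := by
    have hF : F ≤ perfectClosure K N := by
      intro x hx
      rw [mem_perfectClosure_iff_natSepDegree_eq_one, Polynomial.natSepDegree_eq_of_splits _
        (Normal.splits inferInstance x), Finset.card_eq_one]
      refine ⟨x, Finset.eq_singleton_iff_unique_mem.2 ⟨?_, fun y hy => ?_⟩⟩
      · rw [Multiset.mem_toFinset, Polynomial.mem_aroots]
        exact ⟨minpoly.ne_zero (Algebra.IsIntegral.isIntegral x), minpoly.aeval K x⟩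
      · rw [Multiset.mem_toFinset, Polynomial.mem_aroots] at hy
        obtain ⟨σ, rfl⟩ := minpoly.exists_algEquiv_of_root' (Algebra.IsAlgebraic.isAlgebraic x) hy.2
        exact (IntermediateField.mem_fixedField_iff _ x).1 hx σ trivial
    exact (le_perfectClosure_iff K N F).1 hF
  haveI : Module.Finite A (integralClosure A F) := h F inferInstance inferInstance
  haveI : IsNoetherianRing (integralClosure A F) := IsNoetherianRing.of_finite A _
  haveI : IsFractionRing (integralClosure A F) F :=
    integralClosure.isFractionRing_of_finite_extension (A := A) K F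
  haveI : IsIntegrallyClosed (integralClosure A F) :=
    integralClosure.isIntegrallyClosedOfFiniteExtension (R := A) K (L := F)
  haveI : IsGalois F N := IsGalois.of_fixed_field N (⊤ : Subgroup (N ≃ₐ[K] N))
  haveI : Module.Finite (integralClosure A F) (integralClosure (integralClosure A F) N) :=
    IsIntegralClosure.finite (integralClosure A F) F N (integralClosure (integralClosure A F) N)
  haveI : IsScalarTower A (integralClosure A F) N := IsScalarTower.of_algebraMap_eq fun _ => rfl
  haveI : Module.Finite A (integralClosure (integralClosure A F) N) :=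
    Module.Finite.trans (integralClosure A F) _
  haveI : IsNoetherian A (integralClosure (integralClosure A F) N) :=
    isNoetherian_of_isNoetherianRing_of_finite A _
  let ι : integralClosure A N →ₗ[A] integralClosure (integralClosure A F) N :=
    { toFun := fun z => ⟨z.1, z.2.tower_top⟩, map_add' := fun _ _ => rfl, map_smul' := fun _ _ => rfl }
  haveI : Module.Finite A (integralClosure A N) :=
    Module.Finite.of_injective ι fun a b hab => Subtype.ext (congrArg Subtype.val hab :)
  obtain ⟨j⟩ : Nonempty (L →ₐ[K] N) := ⟨(IsScalarTower.toAlgHom K L (AlgebraicClosure L)).codRestrict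
    N.toSubalgebra (fun z => (IsScalarTower.toAlgHom K L (AlgebraicClosure L)).fieldRange_le_normalClosure
      ⟨z, rfl⟩)⟩
  exact finite_of_algHom (j.restrictScalars A)

theorem isN2_of_isField (F : Type u) [Field F] : CAlg.IsN2 F := by
  intro L _ _ _ _ hfin
  haveI : FiniteDimensional F (FractionRing F) :=
    Module.Finite.of_surjective (Algebra.linearMap F (FractionRing F))
      (IsFractionRing.surjective_iff_isField.2 (Field.toIsField F))
  haveI : FiniteDimensional F L := Module.Finite.trans (FractionRing F) L
  infer_instance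

theorem isN2_of_ringEquiv {R S : Type u} [CommRing R] [IsDomain R] [CommRing S] [IsDomain S]
    (e : R ≃+* S) (h : CAlg.IsN2 R) : CAlg.IsN2 S := by
  intro L _ _ _ _ hfin
  letI : Algebra R S := e.toRingHom.toAlgebra
  letI : Algebra R L := ((algebraMap S L).comp e.toRingHom).toAlgebra
  haveI : IsScalarTower R S L := IsScalarTower.of_algebraMap_eq fun _ => rfl
  haveI : IsFractionRing R (FractionRing S) := by
    have := (IsFractionRing.isFractionRing_iff_of_base_ringEquiv (R := S) (FractionRing S) e.symm).1 inferInstance
    convert this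
    · rfl
    · refine Algebra.algebra_ext _ _ fun r => ?_
      rfl
  haveI : IsScalarTower R (FractionRing S) L := IsScalarTower.of_algebraMap_eq fun r => by
    show algebraMap S L (e r) = algebraMap (FractionRing S) L (algebraMap S (FractionRing S) (e r))
    rw [← IsScalarTower.algebraMap_apply]
  haveI : Module.Finite R (integralClosure R L) := N2Lib.finite_of_isN2 h (FractionRing S) L
  haveI : Algebra.IsIntegral R S := Algebra.IsIntegral.of_surjective (Algebra.ofId R S) e.surjective
  let φ : integralClosure R L →ₛₗ[(e.toRingHom : R →+* S)] integralClosure S L :=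
    { toFun := fun z => ⟨z.1, z.2.tower_top⟩
      map_add' := fun _ _ => rfl
      map_smul' := fun r z => Subtype.ext (by
        show r • (z : L) = e r • (z : L)
        rw [Algebra.smul_def, Algebra.smul_def]; rfl) }
  haveI : RingHomSurjective (e.toRingHom : R →+* S) := ⟨e.surjective⟩
  exact Module.Finite.of_surjective φ fun w => ⟨⟨w.1, isIntegral_trans (R := R) w.1 w.2⟩, rfl⟩

theorem isN1_of_isIntegrallyClosed (R : Type u) [CommRing R] [IsDomain R] [IsIntegrallyClosed R] :
    CAlg.IsN1 R :=
  Module.Finite.of_surjective (Algebra.linearMap R (integralClosure R (FractionRing R))) fun z => by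
    obtain ⟨y, hy⟩ := IsIntegrallyClosed.isIntegral_iff.1 z.2
    exact ⟨y, Subtype.ext hy⟩

/-- The inductive step of Tate's lemma, inside an extension containing a `q`-th root of `x`. -/
theorem tate_step {R : Type u} [CommRing R] [IsDomain R] [IsNoetherianRing R] [IsIntegrallyClosed R]
    (x : R) (hx0 : x ≠ 0) [(Ideal.span ({x} : Set R)).IsPrime]
    (h2 : CAlg.IsN2 (R ⧸ Ideal.span ({x} : Set R))) [IsAdicComplete (Ideal.span ({x} : Set R)) R]
    (L : Type u) [Field L] [Algebra R L] [Algebra (FractionRing R) L]
    [IsScalarTower R (FractionRing R) L] [FiniteDimensional (FractionRing R) L]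
    (p n : ℕ) [hp : Fact p.Prime] [CharP L p]
    (hq : ∀ z : L, ∃ c : FractionRing R, algebraMap _ L c = z ^ p ^ n)
    (y : L) (hy : y ^ p ^ n = algebraMap R L x) :
    Module.Finite R (integralClosure R L) := by
  classical
  let K := FractionRing R
  let S := integralClosure R L
  let q := p ^ n
  have hq0 : q ≠ 0 := pow_ne_zero _ hp.out.ne_zero
  haveI : FaithfulSMul R L := (faithfulSMul_iff_algebraMap_injective _ _).2 (by
    rw [IsScalarTower.algebraMap_eq R K L]
    exact (algebraMap K L).injective.comp (IsFractionRing.injective R K))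
  have hinj := FaithfulSMul.algebraMap_injective R L
  have hex : ∀ z : S, ∃ r : R, algebraMap R L r = (z : L) ^ q := fun z => by
    obtain ⟨c, hc⟩ := hq (z : L)
    have hci : IsIntegral R c := (isIntegral_algHom_iff (IsScalarTower.toAlgHom R K L)
      (algebraMap K L).injective).1 (by
        show IsIntegral R (algebraMap K L c)
        rw [hc]; exact z.2.pow _)
    obtain ⟨r, hr⟩ := IsIntegrallyClosed.isIntegral_iff.1 hci
    exact ⟨r, by rw [IsScalarTower.algebraMap_apply R K L, hr, hc]⟩
  choose φ hφ using hex
  have hmem : ∀ {z : L} {r : R}, algebraMap R L r = z ^ q → z ∈ S := fun {z r} h =>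
    IsIntegral.of_pow (Nat.pos_of_ne_zero hq0) (h ▸ isIntegral_algebraMap)
  let φR : S →+* R :=
    { toFun := φ
      map_one' := hinj (by rw [hφ, map_one]; simp)
      map_mul' := fun a b => hinj (by rw [map_mul, hφ, hφ, hφ, ← mul_pow]; rfl)
      map_zero' := hinj (by rw [hφ, map_zero]; simp [zero_pow hq0])
      map_add' := fun a b => hinj (by
        rw [map_add, hφ, hφ, hφ]
        exact (add_pow_char_pow (p := p) (n := n) (a : L) (b : L))) }
  have hφR : ∀ r : R, φR (algebraMap R S r) = r ^ q := fun r => hinj (by
    rw [show φR (algebraMap R S r) = φ (algebraMap R S r) from rfl, hφ, map_pow]; rfl)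
  let yS : S := ⟨y, hmem hy.symm⟩
  have hyφ : φR yS = x := hinj (by rw [show φR yS = φ yS from rfl, hφ]; exact hy)
  have hy0 : y ≠ 0 := fun h0 => hx0 (hinj (by rw [← hy, h0, zero_pow hq0, map_zero]))
  let P : Ideal S := Ideal.span {yS}
  have hP : ∀ z : S, z ∈ P ↔ φR z ∈ Ideal.span ({x} : Set R) := fun z => by
    constructor
    · intro hz
      obtain ⟨w, rfl⟩ := Ideal.mem_span_singleton'.1 hz
      rw [map_mul, hyφ]
      exact Ideal.mul_mem_left _ _ (Ideal.mem_span_singleton_self x)
    · intro hz
      obtain ⟨r, hr⟩ := Ideal.mem_span_singleton'.1 hz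
      refine Ideal.mem_span_singleton'.2 ⟨⟨(z : L) / y, hmem (r := r) ?_⟩, Subtype.ext ?_⟩
      · rw [div_pow, show y ^ q = algebraMap R L x from hy, ← hφ,
          show φ z = r * x from hr.symm, map_mul, mul_div_assoc, div_self, mul_one]
        exact (map_ne_zero_iff _ hinj).2 hx0
      · show (z : L) / y * y = z
        rw [div_mul_cancel₀ _ hy0]
  haveI hPp : P.IsPrime := by
    have : P = (Ideal.span ({x} : Set R)).comap φR := Ideal.ext hP
    rw [this]; infer_instance
  let Rb := R ⧸ Ideal.span ({x} : Set R)
  haveI hover : P.LiesOver (Ideal.span ({x} : Set R)) := ⟨by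
    ext r
    rw [Ideal.under, Ideal.mem_comap, hP, hφR]
    exact ⟨fun h => Ideal.pow_mem_of_mem _ h _ (Nat.pos_of_ne_zero hq0),
      fun h => Ideal.IsPrime.mem_of_pow_mem inferInstance _ h⟩⟩
  let D := S ⧸ P
  let φb : D →+* Rb := Ideal.Quotient.lift P ((Ideal.Quotient.mk _).comp φR)
    (fun z hz => Ideal.Quotient.eq_zero_iff_mem.2 ((hP z).1 hz))
  have hφb : ∀ d : D, algebraMap Rb D (φb d) = d ^ q := fun d => by
    obtain ⟨z, rfl⟩ := Ideal.Quotient.mk_surjective d
    show Ideal.Quotient.mk P (algebraMap R S (φR z)) = Ideal.Quotient.mk P z ^ q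
    rw [← map_pow]
    exact congrArg _ (Subtype.ext (by rw [SubmonoidClass.coe_pow]; exact hφ z))
  haveI : FaithfulSMul Rb (FractionRing D) := (faithfulSMul_iff_algebraMap_injective _ _).2 (by
    rw [IsScalarTower.algebraMap_eq Rb D (FractionRing D)]
    exact (IsFractionRing.injective D (FractionRing D)).comp (FaithfulSMul.algebraMap_injective Rb D))
  let κ := FractionRing Rb
  let M := FractionRing D
  letI : Algebra κ M := FractionRing.liftAlgebra Rb M
  -- `κ`-independent families lift
  have hlift : ∀ (m : ℕ) (s : Fin m → S),
      LinearIndependent κ (fun i => algebraMap D M (Ideal.Quotient.mk P (s i))) →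
        LinearIndependent K (fun i => ((s i : S) : L)) := by
    intro m s hli
    rw [← LinearIndependent.iff_fractionRing (R := R) (K := K), Fintype.linearIndependent_iff]
    intro a ha
    have hdiv : ∀ (k : ℕ) (a : Fin m → R), ∑ i, a i • (s i : L) = 0 → ∀ i, a i ∈ Ideal.span ({x} : Set R) ^ k := by
      intro k
      induction k with
      | zero => intro a _ i; simp
      | succ k ih =>
        intro a ha i
        have h0 : ∀ i, Ideal.Quotient.mk (Ideal.span ({x} : Set R)) (a i) = 0 := by
          have hS : ∑ i, a i • s i = 0 := Subtype.ext (by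
            rw [AddSubmonoidClass.coe_finsetSum]; simpa using ha)
          have hD := congrArg (fun z => algebraMap D M (Ideal.Quotient.mk P z)) hS
          simp only [map_sum, map_zero] at hD
          have hD' : ∑ i, (algebraMap Rb κ (Ideal.Quotient.mk _ (a i))) •
              algebraMap D M (Ideal.Quotient.mk P (s i)) = 0 := by
            rw [← hD]
            refine Finset.sum_congr rfl fun i _ => ?_
            rw [algebraMap_smul, Algebra.smul_def, IsScalarTower.algebraMap_apply Rb D M,
              Algebra.smul_def, map_mul, map_mul]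
            rfl
          exact fun i => (FaithfulSMul.algebraMap_eq_zero_iff Rb κ).1
            (Fintype.linearIndependent_iff.1 hli _ hD' i)
        choose b hb using fun i => Ideal.mem_span_singleton'.1 (Ideal.Quotient.eq_zero_iff_mem.1 (h0 i))
        have hb0 : ∑ i, b i • (s i : L) = 0 := by
          have h1 : algebraMap R L x * ∑ i, b i • (s i : L) = 0 := by
            rw [← ha, Finset.mul_sum]
            refine Finset.sum_congr rfl fun i _ => ?_
            rw [← hb i, Algebra.smul_def, Algebra.smul_def, map_mul]
            ring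
          exact (mul_eq_zero.1 h1).resolve_left ((map_ne_zero_iff _ hinj).2 hx0)
        rw [← hb i, pow_succ]
        exact Ideal.mul_mem_mul (ih b hb0 i) (Ideal.mem_span_singleton_self x)
    intro i
    have := Ideal.iInf_pow_eq_bot_of_isDomain (I := Ideal.span ({x} : Set R))
      (Ideal.IsPrime.ne_top inferInstance)
    exact (Submodule.mem_bot R).1 (this ▸ Ideal.mem_iInf.2 fun k => hdiv k a ha i)
  haveI : FiniteDimensional κ M := by
    obtain ⟨b, hbs, hspan, hli⟩ := exists_linearIndependent κ (Set.range (algebraMap D M))
    have hcard : ∀ t : Finset M, ↑t ⊆ b → t.card ≤ Module.finrank K L := by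
      intro t ht
      have h1 : ∀ i : Fin t.card, ∃ z : S, algebraMap D M (Ideal.Quotient.mk P z) = (t.equivFin.symm i : M) :=
        fun i => by
        obtain ⟨d, hd⟩ := hbs (ht (t.equivFin.symm i).2)
        obtain ⟨z, rfl⟩ := Ideal.Quotient.mk_surjective d
        exact ⟨z, hd⟩
      choose s hs using h1
      have hli' : LinearIndependent κ (fun i => algebraMap D M (Ideal.Quotient.mk P (s i))) := by
        rw [show (fun i => algebraMap D M (Ideal.Quotient.mk P (s i))) =
          ((↑) : b → M) ∘ fun i => ⟨(t.equivFin.symm i : M), ht (t.equivFin.symm i).2⟩ from funext hs]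
        refine hli.comp _ fun i j hij => ?_
        exact t.equivFin.symm.injective (Subtype.ext (congrArg Subtype.val hij :))
      simpa using (hlift _ s hli').fintype_card_le_finrank
    have hbfin : b.Finite := by
      by_contra hinf
      obtain ⟨t, ht, hc⟩ := Set.Infinite.exists_subset_card_eq hinf (Module.finrank K L + 1)
      have := hcard t ht
      omega
    have htop : Submodule.span κ b = ⊤ := by
      rw [hspan, eq_top_iff]
      intro w _
      obtain ⟨d, e, he, rfl⟩ := IsFractionRing.div_surjective (A := D) w
      have he0 : e ≠ 0 := nonZeroDivisors.ne_zero he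
      have : algebraMap D M d / algebraMap D M e =
          (algebraMap Rb κ (φb e))⁻¹ • algebraMap D M (d * e ^ (q - 1)) := by
        rw [Algebra.smul_def, map_inv₀, ← IsScalarTower.algebraMap_apply Rb κ M,
          IsScalarTower.algebraMap_apply Rb D M, hφb, map_pow, map_mul, map_pow, eq_comm,
          inv_mul_eq_div, div_eq_div_iff (pow_ne_zero _ ((map_ne_zero_iff _ (IsFractionRing.injective D M)).2 he0))
            ((map_ne_zero_iff _ (IsFractionRing.injective D M)).2 he0), mul_assoc, ← pow_succ,
          Nat.sub_add_cancel (Nat.pos_of_ne_zero hq0)]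
      rw [this]
      exact Submodule.smul_mem _ _ (Submodule.subset_span ⟨_, rfl⟩)
    exact ⟨⟨hbfin.toFinset, by rw [Set.Finite.coe_toFinset, htop]⟩⟩
  haveI : Module.Finite Rb (integralClosure Rb M) := N2Lib.finite_of_isN2 h2 κ M
  haveI : Module.Finite Rb D := by
    haveI : IsNoetherian Rb (integralClosure Rb M) := isNoetherian_of_isNoetherianRing_of_finite Rb _
    haveI : Algebra.IsIntegral Rb D := ⟨fun d => by
      refine IsIntegral.of_pow (Nat.pos_of_ne_zero hq0) ?_
      rw [← hφb]; exact isIntegral_algebraMap⟩
    let ψ : D →ₗ[Rb] integralClosure Rb M :=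
      { toFun := fun d => ⟨algebraMap D M d,
          (Algebra.IsIntegral.isIntegral (R := Rb) d).map (IsScalarTower.toAlgHom Rb D M)⟩
        map_add' := fun _ _ => Subtype.ext (map_add _ _ _)
        map_smul' := fun r d => Subtype.ext (by
          show algebraMap D M (r • d) = r • algebraMap D M d
          exact LinearMap.map_smul_of_tower (Algebra.linearMap D M) r d) }
    exact Module.Finite.of_injective ψ fun a c hac =>
      IsFractionRing.injective D M (congrArg Subtype.val hac :)
  haveI : Module.Finite R D := Module.Finite.trans Rb D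
  obtain ⟨m, g, hg⟩ := Module.Finite.exists_fin (R := R) (M := D)
  choose gS hgS using fun i => Ideal.Quotient.mk_surjective (g i)
  have hgen : ∀ (i : ℕ) (z : S), ∃ w : S, z - yS ^ i * w ∈
      Submodule.span R (Set.range fun a : Fin i × Fin m => yS ^ (a.1 : ℕ) * gS a.2) := by
    intro i
    induction i with
    | zero => exact fun z => ⟨z, by simp⟩
    | succ i ih =>
      intro z
      obtain ⟨w, hw⟩ := ih z
      have hwD : Ideal.Quotient.mk P w ∈ Submodule.span R (Set.range g) := by rw [hg]; trivial
      obtain ⟨c, hc⟩ := (Submodule.mem_span_range_iff_exists_fun R).1 hwD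
      have hwP : w - ∑ j, c j • gS j ∈ P := by
        rw [← Ideal.Quotient.eq_zero_iff_mem, map_sub, map_sum, sub_eq_zero, ← hc]
        refine Finset.sum_congr rfl fun j _ => ?_
        rw [← hgS j]
        rfl
      obtain ⟨w', hw'⟩ := Ideal.mem_span_singleton'.1 hwP
      refine ⟨w', ?_⟩
      rw [show z - yS ^ (i + 1) * w' = (z - yS ^ i * w) + ∑ j, c j • (yS ^ i * gS j) by
        simp only [← mul_smul_comm, ← Finset.mul_sum]
        linear_combination (-(yS ^ i)) * hw']
      refine add_mem (Submodule.span_mono ?_ hw) (Submodule.sum_mem _ fun j _ =>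
        Submodule.smul_mem _ _ (Submodule.subset_span ⟨(Fin.last i, j), rfl⟩))
      rintro _ ⟨a, rfl⟩
      exact ⟨(a.1.castSucc, a.2), rfl⟩
  let I : Ideal R := Ideal.span ({x} : Set R)
  haveI : IsHausdorff I S := ⟨fun z hz => by
    have hz' : ∀ k, φR z ∈ I ^ k := fun k => by
      have h1 : z ∈ (I ^ k • ⊤ : Submodule R S) := SModEq.zero.1 (hz k)
      refine Submodule.smul_induction_on h1 (fun r hr w _ => ?_) (fun a b ha hb => by
        rw [map_add]; exact add_mem ha hb)
      rw [Algebra.smul_def, map_mul, hφR]
      exact Ideal.mul_mem_right _ _ (Ideal.pow_mem_of_mem _ hr _ (Nat.pos_of_ne_zero hq0))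
    have h0 : φR z = 0 := (Submodule.mem_bot R).1 (Ideal.iInf_pow_eq_bot_of_isDomain (I := I)
      (Ideal.IsPrime.ne_top inferInstance) ▸ Ideal.mem_iInf.2 hz')
    have h1 := hφ z
    rw [show φ z = φR z from rfl, h0, map_zero] at h1
    exact Subtype.ext (pow_eq_zero_iff hq0 |>.1 h1.symm)⟩
  refine AdicLemmas.module_finite_of_quotient_finite I S ?_
  haveI : Module.Finite R (Submodule.span R (Set.range fun a : Fin q × Fin m => yS ^ (a.1 : ℕ) * gS a.2)) :=
    Module.Finite.span_of_finite R (Set.finite_range _)
  refine Module.Finite.of_surjective ((I • ⊤ : Submodule R S).mkQ.comp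
    (Submodule.span R (Set.range fun a : Fin q × Fin m => yS ^ (a.1 : ℕ) * gS a.2)).subtype) fun c => ?_
  obtain ⟨z, rfl⟩ := Submodule.mkQ_surjective _ c
  obtain ⟨w, hw⟩ := hgen q z
  refine ⟨⟨_, hw⟩, (Submodule.Quotient.eq _).2 ?_⟩
  show z - yS ^ q * w - z ∈ _
  rw [sub_sub_cancel_left]
  refine neg_mem ?_
  have : yS ^ q = algebraMap R S x := Subtype.ext (by rw [SubmonoidClass.coe_pow]; exact hy)
  rw [this, ← Algebra.smul_def]
  exact Submodule.smul_mem_smul (Ideal.mem_span_singleton_self x) trivial

/-- **Tate's lemma.** -/
theorem tate (R : Type u) [CommRing R] [IsDomain R] [IsNoetherianRing R] [IsIntegrallyClosed R] (x : R)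
    [(Ideal.span ({x} : Set R)).IsPrime] (h2 : CAlg.IsN2 (R ⧸ Ideal.span ({x} : Set R)))
    [IsAdicComplete (Ideal.span ({x} : Set R)) R] : CAlg.IsN2 R := by
  classical
  rcases eq_or_ne x 0 with rfl | hx0
  · exact isN2_of_ringEquiv ((Ideal.quotEquivOfEq (by simp)).trans (RingEquiv.quotientBot R)) h2
  obtain ⟨p, hp⟩ := CharP.exists R
  rcases CharP.char_is_prime_or_zero R p with hpr | rfl
  · haveI := Fact.mk hpr
    refine isN2_of_purelyInseparable R fun L _ _ _ _ hfin hins => ?_
    let K := FractionRing R
    haveI : CharP K p := charP_of_injective_algebraMap (IsFractionRing.injective R K) p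
    haveI : CharP L p := charP_of_injective_algebraMap (algebraMap K L).injective p
    let n := IsPurelyInseparable.exponent K L
    let E := AlgebraicClosure L
    haveI : CharP E p := charP_of_injective_algebraMap (algebraMap L E).injective p
    obtain ⟨y, hy⟩ := IsAlgClosed.exists_pow_nat_eq (algebraMap R E x) (pow_pos hpr.pos n)
    let L' := IntermediateField.adjoin L ({y} : Set E)
    haveI : FiniteDimensional L L' :=
      IntermediateField.adjoin.finiteDimensional (Algebra.IsIntegral.isIntegral y)
    haveI : FiniteDimensional K L' := Module.Finite.trans L L'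
    haveI : IsScalarTower R K L' := IsScalarTower.of_algebraMap_eq fun r => Subtype.ext (IsScalarTower.algebraMap_apply R K E r)
    haveI : CharP L' p := charP_of_injective_algebraMap (algebraMap L L').injective p
    have hq : ∀ z : L', ∃ c : K, algebraMap K L' c = z ^ p ^ n := by
      let Φ : Subfield E := (algebraMap K E).fieldRange.comap (iterateFrobenius E p n)
      have hle : ∀ z ∈ L', z ∈ Φ := by
        suffices h : L'.toSubfield ≤ Φ from fun z hz => h hz
        refine IntermediateField.adjoin_le_subfield (K := Φ) L {y} ?_ ?_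
        · rintro _ ⟨l, rfl⟩
          refine ⟨IsPurelyInseparable.iterateFrobenius K L p le_rfl l, ?_⟩
          rw [iterateFrobenius_def, IsScalarTower.algebraMap_apply K L E,
            IsPurelyInseparable.algebraMap_iterateFrobenius, map_pow]
        · rintro _ rfl
          refine ⟨algebraMap R K x, ?_⟩
          rw [iterateFrobenius_def, hy, ← IsScalarTower.algebraMap_apply]
      intro z
      obtain ⟨c, hc⟩ := hle z.1 z.2
      rw [iterateFrobenius_def] at hc
      exact ⟨c, Subtype.ext (by rw [SubmonoidClass.coe_pow]; exact hc)⟩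
    let yL : L' := ⟨y, IntermediateField.mem_adjoin_simple_self L y⟩
    haveI : Module.Finite R (integralClosure R L') :=
      tate_step x hx0 h2 L' p n hq yL (Subtype.ext (by rw [SubmonoidClass.coe_pow]; exact hy))
    exact finite_of_algHom ((IsScalarTower.toAlgHom L L L').restrictScalars R)
  · haveI := CharP.charP_to_charZero R
    exact (S0574.result R).1 (isN1_of_isIntegrallyClosed R)

end Groth.Agent.NagataCompleteLib
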